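import Cfsg.Agent.H726.Four.Lam
import Cfsg.Agent.H383.Cube.TorWitt
import Cfsg.Agent.H383.Cube.Crude
import Cfsg.Agent.H383.Cube.Classical

/-!
# Five good characters of `PSU₄(q)` and `PSU₅(q)`, `q` even (helper151, TEAM K4)

* `torus_ge` : `m ≤ |T| (1 + a) (1 + b) (1 + a b)` if `|Y| = 2 ^ k m`, `m` odd, for type `B₂`;
* `psu4`, `psu5` : the order of the torus;
* `good5_psu4`, `good5_psu5` : `Good5` for `q ≥ 4` (by five characters of the principal series), `good5_psu5` also for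
  `q = 2`.
-/

set_option autoImplicit false
set_option linter.unusedSectionVars false

open Cfsg

namespace Cfsg.Agent.H151.K4.PSU45

open CoxeterSystem Cfsg.Agent.ChevalleyStructure.CoxeterGeom Cfsg.Agent.Tits.Roots Cfsg.Agent.Tits.Core
  Cfsg.Agent.Tits.Exchange Cfsg.Agent.Nodes.Reps Cfsg.Agent.Nodes.BNOf Cfsg.Agent.Nodes.StabComb
  Cfsg.Agent.Nodes.Bruhat Cfsg.Agent.Nodes.OppDec Cfsg.Agent.Nodes.LeviDec
open Cfsg.Agent.H601.K4 Cfsg.Agent.H383.Cube

section order

variable {Y : Type*} [Group Y] {T : Subgroup Y} {A : Fin 2 → Fin 2 → ℤ} {h : IsCartan (CoxeterMatrix.B 2) A}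
  {nn : Fin 2 → Y} {X : (Fin 2 → ℤ) → Subgroup Y}

/-- the order formula of type `B₂` -/
theorem card_eq_B [Finite Y] [Finite (CoxeterMatrix.B 2).Group] {p : ℕ}
    (R : RGD (CoxeterMatrix.B 2).toCoxeterSystem h p T nn X)
    (hG : GG (CoxeterMatrix.B 2).toCoxeterSystem h T X = ⊤) :
    Nat.card Y = Nat.card ↥(RGD.B (CoxeterMatrix.B 2).toCoxeterSystem h T X) *
      NB (Nat.card (X (sr 0))) (Nat.card (X (sr 1))) 2 := by
  have : Fintype (CoxeterMatrix.B 2).Group := Fintype.ofFinite _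
  rw [card_eq R hG, H461.CoxB.sum_B (CoxeterMatrix.B 2).toCoxeterSystem (Nat.card (X (sr 0))) (Nat.card (X (sr 1)))
    _ (card_one R) fun w i hl => ?_]
  rw [card_step R w i hl]
  congr 1
  fin_cases i
  · simp
  · simp

/-- **A lower bound for the order of the torus.** -/
theorem torus_ge [Finite Y] [Finite (CoxeterMatrix.B 2).Group]
    (R : RGD (CoxeterMatrix.B 2).toCoxeterSystem h 2 T nn X)
    (hG : GG (CoxeterMatrix.B 2).toCoxeterSystem h T X = ⊤) {a b u m k : ℕ} (ha : Nat.card (X (sr 0)) ≤ a)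
    (hb : Nat.card (X (sr 1)) ≤ b) (hu : u = 2 ^ k) (hm : Nat.Coprime 2 m) (hY : Nat.card Y = u * m) :
    m ≤ Nat.card T * ((1 + a) * (1 + b) * (1 + a * b)) := by
  have : Fact (Nat.Prime 2) := ⟨Nat.prime_two⟩
  have h1 := card_eq_B R hG
  have h2 := card_B_le R
  rw [card_U_eq R hG hu hm hY] at h2
  have hNB : NB a b 2 = (1 + a) * (1 + b) * (1 + a * b) := by
    unfold NB
    rw [Finset.prod_range_succ, Finset.prod_range_one, Finset.sum_range_one, Finset.sum_range_succ,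
      Finset.sum_range_one]
    ring
  have h3 : NB (Nat.card (X (sr 0))) (Nat.card (X (sr 1))) 2 ≤ (1 + a) * (1 + b) * (1 + a * b) := by
    rw [← hNB]
    exact NB_mono ha hb 2
  have h4 : u * m ≤ u * (Nat.card T * ((1 + a) * (1 + b) * (1 + a * b))) := by
    rw [← hY, h1]
    calc _ ≤ (Nat.card T * u) * ((1 + a) * (1 + b) * (1 + a * b)) := Nat.mul_le_mul h2 h3
      _ = _ := by ring
  have hu0 : 0 < u := by
    rw [hu]
    positivity
  exact Nat.le_of_mul_le_mul_left h4 hu0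

end order

/-! ### The last reflection acts trivially on the torus -/

section trivial

variable {I : Type*} {W : Type*} {Y : Type*} [Group W] [Group Y] {M : CoxeterMatrix I}
  {cs : CoxeterSystem M W} {T : Subgroup Y} {n : I → Y} (hN : NSys M T n)

variable (cs) in
/-- the elements of the Weyl group acting trivially on the torus -/
def KW : Subgroup W where
  carrier := {w | ∃ g, Rp cs hN w g ∧ ∀ t ∈ T, g * t = t * g}
  mul_mem' := by
    rintro a b ⟨v, hv, hv'⟩ ⟨w, hw, hw'⟩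
    refine ⟨v * w, hv.mul hw, fun t ht => ?_⟩
    rw [mul_assoc, hw' t ht, ← mul_assoc, hv' t ht, mul_assoc]
  one_mem' := ⟨1, rp_one, fun t _ => by rw [one_mul, mul_one]⟩
  inv_mem' := by
    rintro a ⟨v, hv, hv'⟩
    refine ⟨v⁻¹, hv.inv, fun t ht => ?_⟩
    have h1 := hv' t ht
    calc v⁻¹ * t = v⁻¹ * (t * v) * v⁻¹ := by group
      _ = t * v⁻¹ := by
        rw [← h1]
        group

theorem KW_comm (hT : ∀ a ∈ T, ∀ b ∈ T, a * b = b * a) (w : W) (hw : w ∈ KW cs hN) (g : Y) (hg : Rp cs hN w g)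
    (t : Y) (ht : t ∈ T) : g * t = t * g := by
  obtain ⟨k, hk, hk'⟩ := hw
  have h1 : k⁻¹ * g ∈ T := hk.unique hg
  calc g * t = k * (k⁻¹ * g * t) := by group
    _ = k * t * (k⁻¹ * g) := by
      rw [hT _ h1 t ht]
      group
    _ = t * g := by
      rw [hk' t ht]
      group

/-- rank two: if the second reflection acts trivially, then the index is at most two -/
theorem KW_index {M : CoxeterMatrix (Fin 2)} {cs : CoxeterSystem M W} {n : Fin 2 → Y} (hN : NSys M T n)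
    (h1 : ∀ t ∈ T, n 1 * t = t * n 1) : (KW cs hN).index ≤ 2 := by
  have m1 : cs.simple 1 ∈ KW cs hN := ⟨n 1, rp_simple cs hN 1, h1⟩
  have m2 : cs.simple 0 * cs.simple 1 * cs.simple 0 ∈ KW cs hN := by
    refine ⟨n 0 * n 1 * (n 0)⁻¹, ?_, fun t ht => ?_⟩
    · have h2 := ((rp_simple cs hN 0).mul (rp_simple cs hN 1)).mul (rp_simple cs hN 0).inv
      rwa [CoxeterSystem.inv_simple] at h2
    · have h3 : (n 0)⁻¹ * t * n 0 ∈ T := (Subgroup.mem_normalizer_iff''.1 (hN.norm 0) t).1 ht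
      have h4 := h1 _ h3
      calc n 0 * n 1 * (n 0)⁻¹ * t = n 0 * (n 1 * ((n 0)⁻¹ * t * n 0)) * (n 0)⁻¹ := by group
        _ = t * (n 0 * n 1 * (n 0)⁻¹) := by
          rw [h4]
          group
  have key : ∀ w : W, w ∈ KW cs hN ∨ cs.simple 0 * w ∈ KW cs hN := by
    intro w
    obtain ⟨ω, rfl⟩ := cs.wordProd_surjective w
    induction ω with
    | nil =>
      left
      rw [wordProd_nil]
      exact one_mem _
    | cons i ω ih =>
      rw [wordProd_cons]
      fin_cases i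
      · rcases ih with ih | ih
        · right
          simp only [Fin.zero_eta]
          rwa [← mul_assoc, simple_mul_simple_self, one_mul]
        · left
          exact ih
      · rcases ih with ih | ih
        · left
          exact mul_mem m1 ih
        · right
          have h5 := mul_mem m2 ih
          have e : cs.simple 0 * cs.simple 1 * cs.simple 0 * (cs.simple 0 * cs.wordProd ω) =
              cs.simple 0 * (cs.simple 1 * cs.wordProd ω) := by
            calc _ = cs.simple 0 * cs.simple 1 * (cs.simple 0 * cs.simple 0) * cs.wordProd ω := by group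
              _ = _ := by
                rw [simple_mul_simple_self]
                group
          rw [e] at h5
          exact h5
  have hf : Function.Surjective (fun b : Bool => (QuotientGroup.mk (if b then (1 : W) else cs.simple 0) :
      W ⧸ KW cs hN)) := by
    intro z
    obtain ⟨w, rfl⟩ := QuotientGroup.mk_surjective z
    rcases key w with h2 | h2
    · refine ⟨true, ?_⟩
      refine QuotientGroup.eq.2 ?_
      simpa using h2
    · refine ⟨false, ?_⟩
      refine QuotientGroup.eq.2 ?_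
      simpa using h2
  have h3 := Nat.card_le_card_of_surjective _ hf
  rw [Nat.card_eq_fintype_card (α := Bool), Fintype.card_bool] at h3
  exact h3

end trivial

/-! ### The last Weyl element -/

section witt

open Cfsg.Agent.Nodes Cfsg.Agent.Nodes.WittAll Cfsg.Agent.Nodes.WittU Cfsg.Agent.Nodes.WittInst
  Cfsg.Agent.Nodes.WittRoot Cfsg.Agent.Nodes.TypeC Cfsg.Agent.Nodes.WittRGD
  Cfsg.Agent.TitsThree Cfsg.Agent.TitsThree.Siegel Cfsg.Agent.TitsThree.SiegelGen
  Cfsg.Agent.TitsThree.WittFrame Cfsg.Agent.TitsThree.WBridge Cfsg.Agent.TitsThree.WittWeyl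
  Cfsg.Agent.TitsThree.FrameCN

variable {F : Type*} [Field F] {V : Type*} [AddCommGroup V] [Module F V] {H : HForm F V} {n : ℕ}
  {Fr : Frame H (Fin n)}

/-- if `l σ(l) = 1` for all `l ≠ 0`, then the last Weyl element centralises the torus -/
theorem last_comm {G0 : Subgroup (V ≃ₗ[F] V)} (hA : Amb Fr G0) {d : V} (hd : ∀ v ∈ Fr.V0, ∃ a : F, v = a • d)
    (hd0 : d ∈ Fr.V0) (hσ : ∀ l : F, l ≠ 0 → l * H.σ l = 1) {k t : V ≃ₗ[F] V} (hk : k ∈ G0) {i : Fin n}
    (hi : ¬ (i : ℕ) + 1 < n) (hkm : Mono Fr k (TypeC.sg i)) (ht : t ∈ Tor Fr G0) : k * t = t * k := by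
  obtain ⟨μ, hμ⟩ := TorWitt.exists_scal hA hd hd0 hk hkm (ρ := TypeC.sg i) (fun x => sg_sg i x)
  obtain ⟨ν, hν⟩ := TorWitt.exists_scal hA hd hd0 ht.1 ht.2 (ρ := id) (fun _ => rfl)
  have key : (t * k)⁻¹ * (k * t) = 1 := by
    refine Amb.eq_one_of_fix hA ?_ ?_
    · intro x
      obtain ⟨l, hl0, hl⟩ := ht.2 x
      obtain ⟨l', hl0', hl'⟩ := ht.2 (TypeC.sg i x)
      obtain ⟨m, -, hm⟩ := hkm x
      have e : l' = l := by
        by_cases hx : x.1 = i
        · have h1 : TypeC.sg i x = neg x := by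
            obtain ⟨x1, x2⟩ := x
            obtain rfl : x1 = i := hx
            rw [sg_last hi]
            rfl
          rw [h1] at hl'
          have h2 := hA.iso t ht.1 (Fr.b x) (Fr.b (neg x))
          rw [hl, hl', H.smul_left, H.smul_right] at h2
          change l * (H.σ l' * H.h (Fr.b x) (Fr.b (neg x))) = _ at h2
          have h3 : H.h (Fr.b x) (Fr.b (neg x)) ≠ 0 := by
            rw [Fr.hb_self_neg]
            exact Fr.η_ne _
          have h4 : l * H.σ l' = 1 := by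
            apply mul_right_cancel₀ h3
            rw [one_mul, mul_assoc]
            exact h2
          have h5 : H.σ l' ≠ 0 := by
            intro h6
            rw [h6, mul_zero] at h4
            exact zero_ne_one h4
          exact mul_right_cancel₀ h5 ((hσ l' hl0').trans h4.symm)
        · have h1 : TypeC.sg i x = x := by
            unfold TypeC.sg
            rw [dif_neg hi, if_neg hx]
          rw [h1] at hl'
          have h2 : l' • Fr.b x = l • Fr.b x := hl'.symm.trans hl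
          have h3 : (l' - l) • Fr.b x = 0 := by rw [sub_smul, h2, sub_self]
          exact sub_eq_zero.1 ((smul_eq_zero.1 h3).resolve_right (b_ne_zero x))
      have h1 : (k * t) (Fr.b x) = (t * k) (Fr.b x) := by
        change k (t (Fr.b x)) = t (k (Fr.b x))
        rw [hl, hm, map_smul, map_smul, hl', e]
        change l • k (Fr.b x) = _
        rw [hm, smul_comm]
        rfl
      change (t * k)⁻¹ ((k * t) (Fr.b x)) = Fr.b x
      rw [h1]
      exact (t * k).symm_apply_apply _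
    · intro w hw
      have h1 : (k * t) w = (t * k) w := by
        change k (t w) = t (k w)
        rw [hμ w hw, hν w hw, map_smul, map_smul, hμ w hw, hν w hw, smul_comm]
      change (t * k)⁻¹ ((k * t) w) = w
      rw [h1]
      exact (t * k).symm_apply_apply _
  exact (inv_mul_eq_one.1 key).symm

end witt

/-! ### The unitary groups -/

section unitary

open Cfsg.Agent.Nodes Cfsg.Agent.Nodes.WittAll Cfsg.Agent.Nodes.WittU Cfsg.Agent.Nodes.WittInst
  Cfsg.Agent.Nodes.WittRoot Cfsg.Agent.Nodes.TypeC Cfsg.Agent.Nodes.WittRGD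
  Cfsg.Agent.TitsThree Cfsg.Agent.TitsThree.Siegel Cfsg.Agent.TitsThree.SiegelGen
  Cfsg.Agent.TitsThree.WittFrame Cfsg.Agent.TitsThree.WBridge Cfsg.Agent.TitsThree.WittWeyl
  Cfsg.Agent.TitsThree.FrameCN Cfsg.Agent.LieClassical.HermBasic Cfsg.Agent.TitsThree.KSideU

theorem card_W2 [Finite (CoxeterMatrix.B 2).Group] : Nat.card (CoxeterMatrix.B 2).Group = 8 := by
  have : Fintype (CoxeterMatrix.B 2).Group := Fintype.ofFinite _
  rw [Nat.card_eq_fintype_card, H461.CoxB.card_W (CoxeterMatrix.B 2).toCoxeterSystem]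
  decide

variable {F : Type} [Field F] [Fintype F] [CharP F 2] {q : ℕ} (hF : Fintype.card F = q ^ 2)

include hF

theorem even_q : Even q := by
  obtain ⟨k, -, hk⟩ := FiniteField.card F 2
  rw [hF] at hk
  have h1 : 2 ∣ q ^ 2 := by
    rw [hk]
    exact dvd_pow_self _ k.ne_zero
  exact even_iff_two_dvd.2 (Nat.prime_two.dvd_of_dvd_pow h1)

theorem q_pow : ∃ k, q = 2 ^ k := by
  obtain ⟨k, -, hk⟩ := FiniteField.card F 2
  rw [hF] at hk
  have h1 : q ∣ 2 ^ (k : ℕ) := by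
    rw [← hk]
    exact dvd_pow_self _ (by norm_num)
  obtain ⟨j, -, hj⟩ := (Nat.dvd_prime_pow Nat.prime_two).1 h1
  exact ⟨j, hj⟩

/-- the order of `PSU₄(q)`, `q` even -/
theorem card_four : Nat.card (PSU 4 F q) = q ^ 6 * ((q ^ 2 - 1) * (q ^ 4 - 1) * (q ^ 3 + 1)) := by
  have h1 := Classical.card_psu_even (m := 2) hF (by norm_num)
  have he := even_q hF
  have hg : Nat.gcd (2 * 2) (q + 1) = 1 := by
    have h2 : Nat.Coprime (2 ^ 2) (q + 1) := by
      apply Nat.Coprime.pow_left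
      rw [Nat.coprime_two_left]
      exact he.add_one
    exact h2
  rw [hg, one_mul, Finset.prod_range_succ, Finset.prod_range_one] at h1
  have h2 : (q + 1) * Nat.card (PSU 4 F q) = (q + 1) * (q ^ 6 * ((q ^ 2 - 1) * (q ^ 4 - 1) * (q ^ 3 + 1))) := by
    have h3 : q ^ (2 * (2 * 2 - 1)) * ((q ^ (2 * (0 + 1)) - 1) * (q ^ (2 * 0 + 1) + 1) *
        ((q ^ (2 * (1 + 1)) - 1) * (q ^ (2 * 1 + 1) + 1))) =
        (q + 1) * (q ^ 6 * ((q ^ 2 - 1) * (q ^ 4 - 1) * (q ^ 3 + 1))) := by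
      norm_num
      ring
    rw [← h3]
    exact h1
  exact Nat.eq_of_mul_eq_mul_left (by omega) h2

/-- the order of `PSU₅(q)` -/
theorem card_five : Nat.gcd 5 (q + 1) * Nat.card (PSU 5 F q) =
    q ^ 10 * ((q ^ 2 - 1) * (q ^ 3 + 1) * (q ^ 4 - 1) * (q ^ 5 + 1)) := by
  have h1 := Classical.card_psu_odd (m := 2) hF (by norm_num)
  rw [Finset.prod_range_succ, Finset.prod_range_one] at h1
  have h3 : q ^ (2 * (2 * 2 + 1)) * ((q ^ (2 * (0 + 1)) - 1) * (q ^ (2 * 0 + 3) + 1) *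
        ((q ^ (2 * (1 + 1)) - 1) * (q ^ (2 * 1 + 3) + 1))) =
      q ^ 10 * ((q ^ 2 - 1) * (q ^ 3 + 1) * (q ^ 4 - 1) * (q ^ 5 + 1)) := by
    change q ^ 10 * ((q ^ 2 - 1) * (q ^ 3 + 1) * ((q ^ 4 - 1) * (q ^ 5 + 1))) = _
    ring
  rw [← h3]
  exact h1

theorem two_le : 2 ≤ q := Omega.ML.Ex.Typ.two_le_q hF

theorem odd_pow_sub {k : ℕ} (hk : k ≠ 0) : Odd (q ^ k - 1) := by
  have h1 : Even (q ^ k) := (even_q hF).pow_of_ne_zero hk
  have h2 : 1 ≤ q ^ k := Nat.one_le_pow _ _ (by have := two_le hF; omega)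
  exact Nat.Even.sub_odd h2 h1 odd_one

theorem odd_pow_add {k : ℕ} (hk : k ≠ 0) : Odd (q ^ k + 1) := ((even_q hF).pow_of_ne_zero hk).add_one

/-- **The order of the torus of `PSU₄(q)`.** -/
theorem torus_four {T : Subgroup (PSU 4 F q)} {A : Fin 2 → Fin 2 → ℤ} {h : IsCartan (CoxeterMatrix.B 2) A}
    {nn : Fin 2 → PSU 4 F q} {X : (Fin 2 → ℤ) → Subgroup (PSU 4 F q)} [Finite (CoxeterMatrix.B 2).Group]
    (R : RGD (CoxeterMatrix.B 2).toCoxeterSystem h 2 T nn X)
    (hG : GG (CoxeterMatrix.B 2).toCoxeterSystem h T X = ⊤) (ha : Nat.card (X (sr 0)) ≤ q ^ 2)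
    (hb : Nat.card (X (sr 1)) ≤ q) : (q ^ 2 - 1) * (q - 1) ≤ Nat.card T := by
  obtain ⟨k, hk⟩ := q_pow hF
  have : Finite (PSU 4 F q) := inferInstance
  have h1 := torus_ge R hG ha hb (u := q ^ 6) (k := k * 6) (m := (q ^ 2 - 1) * (q ^ 4 - 1) * (q ^ 3 + 1))
    (by rw [pow_mul, ← hk]) (by
      rw [Nat.coprime_two_left]
      exact ((odd_pow_sub hF (by norm_num)).mul (odd_pow_sub hF (by norm_num))).mul (odd_pow_add hF (by norm_num)))
    (card_four hF)
  have hq := two_le hF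
  obtain ⟨r, rfl⟩ : ∃ r, q = r + 1 := ⟨q - 1, by omega⟩
  have e2 : (r + 1) ^ 2 - 1 = r * (r + 2) := by
    have : (r + 1) ^ 2 = r * (r + 2) + 1 := by ring
    omega
  have e4 : (r + 1) ^ 4 - 1 = r * (r + 2) * ((r + 1) ^ 2 + 1) := by
    have : (r + 1) ^ 4 = r * (r + 2) * ((r + 1) ^ 2 + 1) + 1 := by ring
    omega
  rw [e2, e4] at h1
  rw [e2, Nat.add_sub_cancel]
  have h2 : (r + 2) * ((r + 1) ^ 2 + 1) * ((r + 1) ^ 3 + 1) * (r * (r + 2) * r) ≤
      (r + 2) * ((r + 1) ^ 2 + 1) * ((r + 1) ^ 3 + 1) * Nat.card T := by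
    calc (r + 2) * ((r + 1) ^ 2 + 1) * ((r + 1) ^ 3 + 1) * (r * (r + 2) * r)
        = r * (r + 2) * (r * (r + 2) * ((r + 1) ^ 2 + 1)) * ((r + 1) ^ 3 + 1) := by ring
      _ ≤ _ := h1
      _ = _ := by ring
  exact Nat.le_of_mul_le_mul_left h2 (by positivity)

/-- **The order of the torus of `PSU₅(q)`.** -/
theorem torus_five {T : Subgroup (PSU 5 F q)} {A : Fin 2 → Fin 2 → ℤ} {h : IsCartan (CoxeterMatrix.B 2) A}
    {nn : Fin 2 → PSU 5 F q} {X : (Fin 2 → ℤ) → Subgroup (PSU 5 F q)} [Finite (CoxeterMatrix.B 2).Group]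
    (R : RGD (CoxeterMatrix.B 2).toCoxeterSystem h 2 T nn X)
    (hG : GG (CoxeterMatrix.B 2).toCoxeterSystem h T X = ⊤) (ha : Nat.card (X (sr 0)) ≤ q ^ 2)
    (hb : Nat.card (X (sr 1)) ≤ q ^ 3) : (q ^ 2 - 1) * (q ^ 2 - 1) ≤ Nat.gcd 5 (q + 1) * Nat.card T := by
  obtain ⟨k, hk⟩ := q_pow hF
  have : Finite (PSU 5 F q) := inferInstance
  have hq := two_le hF
  set g := Nat.gcd 5 (q + 1) with hg
  have hodd : Odd ((q ^ 2 - 1) * (q ^ 3 + 1) * (q ^ 4 - 1) * (q ^ 5 + 1)) :=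
    (((odd_pow_sub hF (by norm_num)).mul (odd_pow_add hF (by norm_num))).mul (odd_pow_sub hF (by norm_num))).mul
      (odd_pow_add hF (by norm_num))
  have hcard := card_five hF
  rw [← hg] at hcard
  have hg1 : g = 1 ∨ g = 5 := (Nat.dvd_prime Nat.prime_five).1 (Nat.gcd_dvd_left 5 (q + 1))
  have hgo : Odd g := by
    rcases hg1 with h1 | h1
    · rw [h1]
      exact odd_one
    · rw [h1]
      decide
  have hgc : Nat.Coprime (q ^ 10) g := by
    rw [hk, ← pow_mul]
    exact Nat.Coprime.pow_left _ (Nat.coprime_two_left.2 hgo)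
  obtain ⟨m, hm⟩ : q ^ 10 ∣ Nat.card (PSU 5 F q) := by
    refine hgc.dvd_of_dvd_mul_left (m := g) ?_
    rw [hcard]
    exact dvd_mul_right _ _
  have hq0 : 0 < q ^ 10 := by positivity
  have hgm : g * m = (q ^ 2 - 1) * (q ^ 3 + 1) * (q ^ 4 - 1) * (q ^ 5 + 1) := by
    apply Nat.eq_of_mul_eq_mul_left hq0
    rw [← hcard, hm]
    ring
  have hmo : Odd m := by
    rw [← hgm] at hodd
    exact (Nat.odd_mul.1 hodd).2
  have h1 := torus_ge R hG ha hb (u := q ^ 10) (k := k * 10) (m := m)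
    (by rw [pow_mul, ← hk]) (Nat.coprime_two_left.2 hmo) hm
  have h1' := Nat.mul_le_mul_left g h1
  rw [hgm] at h1'
  obtain ⟨r, rfl⟩ : ∃ r, q = r + 1 := ⟨q - 1, by omega⟩
  have e2 : (r + 1) ^ 2 - 1 = r * (r + 2) := by
    have : (r + 1) ^ 2 = r * (r + 2) + 1 := by ring
    omega
  have e4 : (r + 1) ^ 4 - 1 = r * (r + 2) * ((r + 1) ^ 2 + 1) := by
    have : (r + 1) ^ 4 = r * (r + 2) * ((r + 1) ^ 2 + 1) + 1 := by ring
    omega
  rw [e2, e4] at h1'
  rw [e2]
  have h2 : ((r + 1) ^ 2 + 1) * ((r + 1) ^ 3 + 1) * ((r + 1) ^ 5 + 1) * (r * (r + 2) * (r * (r + 2))) ≤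
      ((r + 1) ^ 2 + 1) * ((r + 1) ^ 3 + 1) * ((r + 1) ^ 5 + 1) * (g * Nat.card T) := by
    calc ((r + 1) ^ 2 + 1) * ((r + 1) ^ 3 + 1) * ((r + 1) ^ 5 + 1) * (r * (r + 2) * (r * (r + 2)))
        = r * (r + 2) * ((r + 1) ^ 3 + 1) * (r * (r + 2) * ((r + 1) ^ 2 + 1)) * ((r + 1) ^ 5 + 1) := by ring
      _ ≤ _ := h1'
      _ = _ := by ring
  exact Nat.le_of_mul_le_mul_left h2 (by positivity)

/-- **`PSU₄(q)`, `q ≥ 4` even.** -/
theorem good5_psu4 (h3 : 3 ≤ q) [IsSimpleGroup (PSU 4 F q)] (ht : H601.OddDeg.TwoC (PSU 4 F q)) :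
    Good5 (PSU 4 F q) := by
  obtain ⟨W, hW⟩ := exists_wframe_even hF (N := 4) (m := 2) rfl
  obtain ⟨p0, hp0, -⟩ := exists_adm hF W
  have := Omega.ML.Ex.Typ.finite_adm (toFrame W)
  have : Fact (Nat.Prime 2) := ⟨Nat.prime_two⟩
  have hfin : Finite (CoxeterMatrix.B 2).Group := finite_W (CoxeterMatrix.B 2).toCoxeterSystem
  have : Finite (PSU 4 F q) := inferInstance
  let M := KInstU.model hF (by norm_num) W
  have hAm := amb_U hF W
  have hA := AmbT.of_amb hAm 2
  have R := rgdC_model M hA hp0 (CoxeterMatrix.B 2).toCoxeterSystem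
  have hGG := H807.CubePar.GG_eq_top (T := WittModel.T M)
    (WittModel.G1_eq_top M (by norm_num) (CoxeterMatrix.B 2).toCoxeterSystem)
  have h0 : Nat.card (WittModel.X M (sr 0)) ≤ q ^ 2 := by
    rw [H807.CubePar.card_short M hA hp0 (i := 0) (by norm_num), Nat.card_eq_fintype_card, hF]
  have h1 : Nat.card (WittModel.X M (sr 1)) ≤ q := by
    have h5 : Nat.card (toFrame W).V0 ≤ 1 := by
      change Nat.card W.V0 ≤ 1
      rw [hW]
      exact le_of_eq Nat.card_unique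
    refine (Omega.ML.Ex.Typ.card_last (n := 2) (by norm_num) M).trans ?_
    exact (Omega.ML.Ex.Typ.card_adm_le (toFrame W) h5 (Omega.ML.Ex.Typ.card_ok_le hF W)).trans (by rw [one_mul])
  have hc := torus_four hF R hGG h0 h1
  have hab := TorWitt.T_comm M hAm (d := 0) (fun v hv => ⟨0, by
    have h6 : v ∈ W.V0 := hv
    rw [hW] at h6
    rw [(Submodule.mem_bot F).1 h6, smul_zero]⟩) (Submodule.zero_mem _)
  refine H726.Four.good5_rgd_of_abel R hGG ht hab ?_
  rw [card_W2]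
  have he := even_q hF
  have h4 : 4 ≤ q := by
    obtain ⟨k, hk⟩ := he
    omega
  refine lt_of_lt_of_le ?_ hc
  have h7 : 4 ^ 2 ≤ q ^ 2 := Nat.pow_le_pow_left h4 2
  calc 3 * 8 + 1 < 15 * 3 := by norm_num
    _ ≤ (q ^ 2 - 1) * (q - 1) := Nat.mul_le_mul (by omega) (by omega)

/-- **`PSU₅(q)`, `q` even.** -/
theorem good5_psu5 [IsSimpleGroup (PSU 5 F q)] (ht : H601.OddDeg.TwoC (PSU 5 F q)) : Good5 (PSU 5 F q) := by
  obtain ⟨W, d, -, hW⟩ := exists_wframe_odd hF (N := 5) (m := 2) rfl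
  obtain ⟨p0, hp0, -⟩ := exists_adm hF W
  have := Omega.ML.Ex.Typ.finite_adm (toFrame W)
  have : Fact (Nat.Prime 2) := ⟨Nat.prime_two⟩
  have hfin : Finite (CoxeterMatrix.B 2).Group := finite_W (CoxeterMatrix.B 2).toCoxeterSystem
  have : Finite (PSU 5 F q) := inferInstance
  let M := KInstU.model hF (by norm_num) W
  have hAm := amb_U hF W
  have hA := AmbT.of_amb hAm 2
  have R := rgdC_model M hA hp0 (CoxeterMatrix.B 2).toCoxeterSystem
  have hGG := H807.CubePar.GG_eq_top (T := WittModel.T M)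
    (WittModel.G1_eq_top M (by norm_num) (CoxeterMatrix.B 2).toCoxeterSystem)
  have h0 : Nat.card (WittModel.X M (sr 0)) ≤ q ^ 2 := by
    rw [H807.CubePar.card_short M hA hp0 (i := 0) (by norm_num), Nat.card_eq_fintype_card, hF]
  have h1 : Nat.card (WittModel.X M (sr 1)) ≤ q ^ 3 := by
    have h5 : Nat.card (toFrame W).V0 ≤ q ^ 2 := by
      change Nat.card W.V0 ≤ q ^ 2
      rw [hW, ← hF, ← Nat.card_eq_fintype_card]
      refine Nat.card_le_card_of_surjective (fun c : F => (⟨c • d, Submodule.smul_mem _ _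
        (Submodule.mem_span_singleton_self d)⟩ : Submodule.span F {d})) ?_
      rintro ⟨x, hx⟩
      obtain ⟨c, rfl⟩ := Submodule.mem_span_singleton.1 hx
      exact ⟨c, rfl⟩
    refine (Omega.ML.Ex.Typ.card_last (n := 2) (by norm_num) M).trans ?_
    exact (Omega.ML.Ex.Typ.card_adm_le (toFrame W) h5 (Omega.ML.Ex.Typ.card_ok_le hF W)).trans (by rw [← pow_succ])
  have hc := torus_five hF R hGG h0 h1
  have hd : ∀ v ∈ (toFrame W).V0, ∃ a : F, v = a • d := by
    intro v hv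
    have h6 : v ∈ W.V0 := hv
    rw [hW] at h6
    obtain ⟨c, hc⟩ := Submodule.mem_span_singleton.1 h6
    exact ⟨c, hc.symm⟩
  have hd0 : d ∈ (toFrame W).V0 := by
    change d ∈ W.V0
    rw [hW]
    exact Submodule.mem_span_singleton_self d
  have hab := TorWitt.T_comm M hAm hd hd0
  have he := even_q hF
  rcases Nat.lt_or_ge q 3 with h3 | h3
  · -- `q = 2`
    have hq2 : q = 2 := by
      have := two_le hF
      omega
    subst hq2
    have hg : Nat.gcd 5 (2 + 1) = 1 := by decide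
    rw [hg, one_mul] at hc
    have hcomm : ∀ t ∈ WittModel.T M, M.φ ⟨nn (toFrame W) p0 1, nn_mem hA p0 1⟩ * t =
        t * M.φ ⟨nn (toFrame W) p0 1, nn_mem hA p0 1⟩ := by
      rintro _ ⟨⟨g, hgI⟩, hg, rfl⟩
      have h2 : nn (toFrame W) p0 1 * g = g * nn (toFrame W) p0 1 := by
        refine last_comm hAm hd hd0 (fun l hl => ?_) (nn_mem hA p0 1) (i := 1) (by norm_num) (mono_nn hp0 1) hg
        have h4 : (HU hF 5).σ l = l ^ 2 := rfl
        rw [h4]
        have h5 := FiniteField.pow_card_sub_one_eq_one l hl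
        rw [hF] at h5
        rw [← pow_succ']
        exact h5
      have h3 : (⟨nn (toFrame W) p0 1, nn_mem hA p0 1⟩ : M.I) * ⟨g, hgI⟩ =
          ⟨g, hgI⟩ * ⟨nn (toFrame W) p0 1, nn_mem hA p0 1⟩ := Subtype.ext h2
      have h4 := congrArg M.φ h3
      rwa [map_mul, map_mul] at h4
    refine H726.Four.good5_rgd_of_card R hGG ht (KW _ R.nsys) (KW_comm R.nsys hab) ?_
    have h5 := KW_index R.nsys (cs := (CoxeterMatrix.B 2).toCoxeterSystem) hcomm
    norm_num at hc
    omega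
  · have h4 : 4 ≤ q := by
      obtain ⟨k, hk⟩ := he
      omega
    refine H726.Four.good5_rgd_of_abel R hGG ht hab ?_
    rw [card_W2]
    have h7 : 4 ^ 2 ≤ q ^ 2 := Nat.pow_le_pow_left h4 2
    have h8 : Nat.gcd 5 (q + 1) ≤ 5 := Nat.gcd_le_left _ (by norm_num)
    have h9 : 15 * 15 ≤ 5 * Nat.card (WittModel.T M) := by
      refine le_trans (Nat.mul_le_mul (by omega) (by omega)) (hc.trans (Nat.mul_le_mul_right _ h8))
    omega

end unitary

end Cfsg.Agent.H151.K4.PSU45
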