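import Cfsg.Agent.H601.K4.GoodOdd
import Cfsg.Agent.H151.K4.PSU45
import Cfsg.Agent.S0822

/-!
# Five good characters of `PSU₄(2) ≅ PSp₄(3)`, and of all `PSU₄(q)`, `q` even (helper151, TEAM K4)
-/

set_option autoImplicit false

open Cfsg

namespace Cfsg.Agent.H151.K4.PSU45

open Cfsg.Agent.H601.K4 Cfsg.Agent.Omega.ML.Ex.Typ

universe u

/-- **`PSp₄(3)`.** -/
theorem good5_psp4_three {S : Type u} [Group S] [Finite S] [IsSimpleGroup S] (e : S ≃* PSp 2 (ZMod 3)) : Good5 S := by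
  have : Fact (Nat.Prime 3) := ⟨Nat.prime_three⟩
  exact good5_of_edge Nat.prime_three (by norm_num)
    (edge_B (n := 2) (by norm_num) ((typ_PSp (p := 3) (F := ZMod 3) (by norm_num)).of_equiv e.symm))

/-- **`PSU₄(2)`.** -/
theorem good5_psu4_two {S : Type u} [Group S] [Finite S] [IsSimpleGroup S] {F : Type} [Field F] [Fintype F]
    (hF : Fintype.card F = 4) (e : S ≃* PSU 4 F 2) : Good5 S := by
  obtain ⟨f⟩ := S0822.result (K := ZMod 3) hF (ZMod.card 3)
  exact good5_psp4_three (e.trans f)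

end Cfsg.Agent.H151.K4.PSU45
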