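import Cfsg.Agent.H967.K4.Typ
import Cfsg.Agent.Characters.Linear
import Mathlib.GroupTheory.FiniteAbelian.Duality
import Mathlib.RingTheory.RootsOfUnity.AlgebraicallyClosed

/-!
# The characters of odd degree over the characters of the torus, abstract form (helper151, TEAM K4)

`TSer U T N` : subgroups `U`, `T`, `N` of `G`, `T ≤ N(U)`, `U ∩ T = 1`, `|G : U T|` and `|T|` odd, `T` abelian and
normalised by `N`, `G = (U T) N (U T)`.

* `TSer.exists_lam`, `TSer.lam_conj` : the series of a linear character of `T`;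
* `TSer.many` : `m` linear characters of `T`, pairwise not conjugate under `N`, give `m` irreducible `σ`-fixed characters
  of odd degree;
* `TSer.fam_of_card` : `(m - 2) k + 1 < |T|` gives `m` pairwise not conjugate characters, if the orbits have at most `k`
  elements;
* `TSer.good5_of_card` : `Good5 G` if `C ≤ N` centralises `T`, `|N : C| ≤ k`, `3 k + 1 < |T|`.
-/

set_option autoImplicit false

open scoped ComplexConjugate
open Cfsg

namespace Cfsg.Agent.H151.K4

open Cfsg.Agent.OddOrderCharacters.Clifford Cfsg.Agent.Characters Cfsg.Agent.H601.K4 Cfsg.Agent.H967.K4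
  Cfsg.Agent.H246.Dl

universe u

/-- the hypotheses on `U`, `T`, `N` -/
structure TSer {G : Type u} [Group G] (U T N : Subgroup G) : Prop where
  norm : T ≤ Subgroup.normalizer (U : Set G)
  disj : ∀ x, x ∈ U → x ∈ T → x = 1
  idx : Odd (U ⊔ T).index
  odd : Odd (Nat.card T)
  comm : ∀ a ∈ T, ∀ b ∈ T, a * b = b * a
  NT : ∀ n ∈ N, ∀ t ∈ T, n * t * n⁻¹ ∈ T
  cover : ∀ g : G, ∃ a ∈ U ⊔ T, ∃ n ∈ N, ∃ b ∈ U ⊔ T, g = a * n * b

section lin

variable {T : Type*} [Group T]

/-- a linear character as a function -/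
def lin (lam : T →* ℂˣ) : T → ℂ := fun t => (lam t : ℂ)

theorem lin_irr (lam : T →* ℂˣ) : IsIrrCharacter T (lin lam) := Linear.isIrrCharacter_hom lam

theorem charDegree_lin (lam : T →* ℂˣ) : charDegree (lin lam) = 1 := by
  unfold charDegree lin
  rw [map_one]
  simp

end lin

theorem lin_odd {T : Type u} [Group T] (lam : T →* ℂˣ) : OddIrr (lin lam) :=
  ⟨lin_irr lam, by rw [charDegree_lin]; norm_num⟩

/-- five irreducible `σ`-fixed characters of odd degree -/
def SF5 (G : Type*) [Group G] : Prop :=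
  ∃ χ : Fin 5 → G → ℂ, Function.Injective χ ∧ ∀ i, (IsIrrCharacter G (χ i) ∧ ¬ 2 ∣ charDegree (χ i)) ∧ SF (χ i)

theorem SF5.of_equiv {S G : Type*} [Group S] [Group G] (e : S ≃* G) (h : SF5 G) : SF5 S := by
  obtain ⟨χ, h1, h2⟩ := h
  refine ⟨fun i => χ i ∘ e, fun i j hij => h1 ?_, fun i => ⟨⟨Core.isIrr_comp e.toMonoidHom e.surjective (h2 i).1.1, ?_⟩,
    (h2 i).2.comp e.toMonoidHom⟩⟩
  · funext g
    have := congrFun hij (e.symm g)
    simpa using this
  · have h3 : charDegree (χ i ∘ e) = charDegree (χ i) := by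
      unfold charDegree
      rw [Function.comp_apply, map_one]
    rw [h3]
    exact (h2 i).1.2

theorem SF5.good5 {S : Type u} [Group S] [Finite S] (h : SF5 S) (ht : H601.OddDeg.TwoC S) : Good5 S := by
  obtain ⟨χ, h1, h2⟩ := h
  exact ⟨χ, h1, fun i => (h2 i).2.good (h2 i).1 ht⟩

variable {G : Type u} [Group G] {U T N : Subgroup G}

namespace TSer

/-- conjugation by an element of `N` on `T` -/
def cj (h : TSer U T N) (n : N) : T ≃* T where
  toFun t := ⟨n * t * (n : G)⁻¹, h.NT n n.2 t t.2⟩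
  invFun t := ⟨(n : G)⁻¹ * t * n, by
    have := h.NT (n : G)⁻¹ (inv_mem n.2) t t.2
    rwa [inv_inv] at this⟩
  left_inv t := Subtype.ext (by simp only; group)
  right_inv t := Subtype.ext (by simp only; group)
  map_mul' a b := Subtype.ext (by simp only [Subgroup.coe_mul]; group)

/-- the action of `N` on the linear characters of `T` -/
def act (h : TSer U T N) (n : N) (lam : T →* ℂˣ) : T →* ℂˣ := lam.comp (h.cj n).symm.toMonoidHom

theorem act_apply (h : TSer U T N) (n : N) (lam : T →* ℂˣ) (t : T) :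
    h.act n lam t = lam ⟨(n : G)⁻¹ * t * n, by
      have := h.NT (n : G)⁻¹ (inv_mem n.2) t t.2
      rwa [inv_inv] at this⟩ := rfl

theorem act_one (h : TSer U T N) (lam : T →* ℂˣ) : h.act 1 lam = lam := by
  ext t
  rw [act_apply]
  congr 3
  simp

theorem act_mul (h : TSer U T N) (m n : N) (lam : T →* ℂˣ) : h.act (m * n) lam = h.act m (h.act n lam) := by
  ext t
  rw [act_apply, act_apply, act_apply]
  congr 3
  simp only [Subgroup.coe_mul]
  group

theorem act_hom (h : TSer U T N) (n : N) (lam mu : T →* ℂˣ) : h.act n (lam * mu) = h.act n lam * h.act n mu := by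
  ext t
  simp [act_apply]

theorem act_triv (h : TSer U T N) (n : N) : h.act n 1 = 1 := by
  ext t
  simp [act_apply]

/-- conjugate characters -/
def Cj (h : TSer U T N) (lam mu : T →* ℂˣ) : Prop := ∃ n : N, h.act n lam = mu

theorem Cj.refl (h : TSer U T N) (lam : T →* ℂˣ) : h.Cj lam lam := ⟨1, h.act_one lam⟩

theorem Cj.symm {h : TSer U T N} {lam mu : T →* ℂˣ} (hc : h.Cj lam mu) : h.Cj mu lam := by
  obtain ⟨n, rfl⟩ := hc
  exact ⟨n⁻¹, by rw [← h.act_mul, inv_mul_cancel, h.act_one]⟩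

/-! ### the series -/

theorem exists_lam (h : TSer U T N) [Fintype G] [Fintype U] [Fintype T] (lam : T →* ℂˣ) :
    ∃ χ : G → ℂ, OddIrr χ ∧ SF χ ∧ ms U T χ (lin lam) ≠ 0 :=
  exists_odd_over U T h.norm h.disj h.idx (lin_odd lam) (SF.of_odd h.odd _)

theorem sum_hom_ne [Fintype T] {lam mu : T →* ℂˣ} (hne : ∑ t : T, lin lam t * conj (lin mu t) ≠ 0) : lam = mu := by
  have h1 := lin_irr lam
  have h2 := lin_irr mu
  by_contra hcon
  have h3 : (lin lam) ≠ lin mu := by
    intro h4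
    apply hcon
    ext t
    exact congrFun h4 t
  have h5 := Core.classInner_irr_ne h1 h2 h3
  rw [Core.classInner_def, mul_eq_zero] at h5
  rcases h5 with h5 | h5
  · exact Core.card_ne_zero_complex (inv_eq_zero.1 h5)
  · exact hne h5

/-- **A common constituent: the characters of the torus are conjugate.** -/
theorem lam_conj (h : TSer U T N) [Fintype G] [Fintype U] [Fintype T] {lam mu : T →* ℂˣ} {χ : G → ℂ}
    (hχ : IsIrrCharacter G χ) (h1 : ms U T χ (lin lam) ≠ 0) (h2 : ms U T χ (lin mu) ≠ 0) : h.Cj lam mu := by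
  classical
  obtain ⟨π, hπ⟩ := exists_proj U T h.norm h.disj
  have : Fintype ↥(U ⊔ T) := Fintype.ofFinite _
  rw [ms_eq U T h.norm h.disj hπ] at h1 h2
  have h1' := classInner_symm_ne (right_ne_zero_of_mul h1)
  have h2' := classInner_symm_ne (right_ne_zero_of_mul h2)
  have hlc : IsCharacter _ (lin lam ∘ π) := Core.isCharacter_comp π (Core.isIrr_isCharacter (lin_irr lam))
  have hmc : IsCharacter _ (lin mu ∘ π) := Core.isCharacter_comp π (Core.isIrr_isCharacter (lin_irr mu))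
  obtain ⟨x, hx⟩ := exists_tw (U ⊔ T) (U ⊔ T) hlc hmc hχ h1' h2'
  obtain ⟨b₁, hb₁, k, hk, b₂, hb₂, e⟩ := h.cover x
  rw [e, tw_mul _ _ (Core.isCharacter_isClassFunction hlc) (Core.isCharacter_isClassFunction hmc) hb₁ hb₂] at hx
  have hT : ∀ t ∈ T, k⁻¹ * t * k ∈ T := by
    intro t ht
    have := h.NT k⁻¹ (inv_mem hk) t ht
    rwa [inv_inv] at this
  have h3 : ∀ (s : G) (hs : s ∈ T), π ⟨s, le_sup_right (a := U) hs⟩ = ⟨s, hs⟩ := by
    intro s hs
    have h4 := hπ 1 (one_mem U) ⟨s, hs⟩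
    rw [← h4]
    congr 1
    exact Subtype.ext (one_mul s).symm
  have key : ∑ t : T, lin lam t * conj (lin (h.act ⟨k, hk⟩ mu) t) ≠ 0 := by
    intro h0
    apply hx
    refine tw_eq_zero_of_sub _ _ hlc hmc k T le_sup_right (fun l hl => le_sup_right (a := U) (hT l hl)) ?_
    rw [← h0]
    refine Finset.sum_congr rfl fun t _ => ?_
    simp only [Function.comp_apply]
    rw [h3 t t.2, h3 _ (hT t t.2)]
    rfl
  exact Cj.symm ⟨⟨k, hk⟩, (sum_hom_ne key).symm⟩

/-- **Pairwise not conjugate characters of the torus give different characters.** -/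
theorem many (h : TSer U T N) [Finite G] {m : ℕ} (lam : Fin m → T →* ℂˣ)
    (hne : ∀ i j, i ≠ j → ¬ h.Cj (lam i) (lam j)) :
    ∃ χ : Fin m → G → ℂ, Function.Injective χ ∧ ∀ i, OddIrr (χ i) ∧ SF (χ i) := by
  classical
  have : Fintype G := Fintype.ofFinite G
  have : Fintype U := Fintype.ofFinite U
  have : Fintype T := Fintype.ofFinite T
  choose χ h1 h2 h3 using fun i => h.exists_lam (lam i)
  refine ⟨χ, fun i j hij => ?_, fun i => ⟨h1 i, h2 i⟩⟩
  by_contra hcon
  refine hne i j hcon (h.lam_conj (h1 i).1 (h3 i) ?_)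
  have := h3 j
  rwa [← hij] at this

theorem good5 (h : TSer U T N) [Finite G] (ht : H601.OddDeg.TwoC G) (lam : Fin 5 → T →* ℂˣ)
    (hne : ∀ i j, i ≠ j → ¬ h.Cj (lam i) (lam j)) : Good5 G := by
  obtain ⟨χ, h1, h2⟩ := h.many lam hne
  exact ⟨χ, h1, fun i => (h2 i).2.good (h2 i).1 ht⟩

/-! ### counting -/

theorem card_hom (h : TSer U T N) [Finite G] : Nat.card (T →* ℂˣ) = Nat.card T := by
  let _ : CommGroup T := { (inferInstance : Group T) with
    mul_comm := fun a b => Subtype.ext (h.comm a a.2 b b.2) }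
  have : HasEnoughRootsOfUnity ℂ (Monoid.exponent T) := inferInstance
  exact CommGroup.card_monoidHom_of_hasEnoughRootsOfUnity T ℂ

theorem finite_hom (h : TSer U T N) [Finite G] : Finite (T →* ℂˣ) := by
  refine Nat.finite_of_card_ne_zero ?_
  rw [h.card_hom]
  exact Nat.card_pos.ne'

/-- the orbit of a linear character -/
def orb (h : TSer U T N) (lam : T →* ℂˣ) : Set (T →* ℂˣ) := {mu | h.Cj lam mu}

theorem orb_one (h : TSer U T N) : h.orb 1 = {1} := by
  ext mu
  constructor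
  · rintro ⟨n, rfl⟩
    exact h.act_triv n
  · rintro rfl
    exact Cj.refl h 1

/-- the orbit of a character fixed by the subgroup `C` of `N` -/
theorem card_orb_le (h : TSer U T N) [Finite G] {C : Subgroup G} (hC : C ≤ N) {lam : T →* ℂˣ}
    (hl : ∀ n (hn : n ∈ C), h.act ⟨n, hC hn⟩ lam = lam) : (h.orb lam).ncard ≤ C.relIndex N := by
  classical
  rw [Subgroup.relIndex, Subgroup.index, ← Nat.card_coe_set_eq]
  let f : N ⧸ C.subgroupOf N → h.orb lam := Quotient.lift (fun n : N => (⟨h.act n lam, n, rfl⟩ : h.orb lam)) (by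
    intro a b hab
    apply Subtype.ext
    change h.act a lam = h.act b lam
    have h1 : a⁻¹ * b ∈ C.subgroupOf N := QuotientGroup.leftRel_apply.1 hab
    have h2 := hl ((a⁻¹ * b : N) : G) (Subgroup.mem_subgroupOf.1 h1)
    have h3 : b = a * (a⁻¹ * b) := by group
    rw [h3, h.act_mul]
    congr 1
    exact h2.symm)
  have hf : Function.Surjective f := by
    rintro ⟨mu, n, rfl⟩
    exact ⟨QuotientGroup.mk n, rfl⟩
  exact Nat.card_le_card_of_surjective f hf

/-- a family of pairwise not conjugate characters, with the union of the orbits of size at most `c` -/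
def Fam (h : TSer U T N) (m c : ℕ) : Prop :=
  ∃ lam : Fin m → T →* ℂˣ, (∀ i j, i ≠ j → ¬ h.Cj (lam i) (lam j)) ∧ (⋃ i, h.orb (lam i)).ncard ≤ c

theorem fam_one (h : TSer U T N) : h.Fam 1 1 := by
  refine ⟨fun _ => 1, fun i j hij => absurd (Subsingleton.elim i j) hij, ?_⟩
  rw [Set.iUnion_const, h.orb_one, Set.ncard_singleton]

theorem Fam.mono {h : TSer U T N} {m c c' : ℕ} (hF : h.Fam m c) (hc : c ≤ c') : h.Fam m c' := by
  obtain ⟨lam, h1, h2⟩ := hF
  exact ⟨lam, h1, h2.trans hc⟩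

/-- adding a given character -/
theorem Fam.add {h : TSer U T N} [Finite G] {m c k : ℕ} {lam : Fin m → T →* ℂˣ}
    (h1 : ∀ i j, i ≠ j → ¬ h.Cj (lam i) (lam j)) (h2 : (⋃ i, h.orb (lam i)).ncard ≤ c) {mu : T →* ℂˣ}
    (hmu : mu ∉ ⋃ i, h.orb (lam i)) (hk : (h.orb mu).ncard ≤ k) : h.Fam (m + 1) (c + k) := by
  have := h.finite_hom
  refine ⟨Fin.snoc (α := fun _ => T →* ℂˣ) lam mu, ?_, ?_⟩
  · intro i j hij
    refine Fin.lastCases (fun hij => ?_) (fun i hij => ?_) i hij
    · revert hij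
      refine Fin.lastCases (fun hij => absurd rfl hij) (fun j hij => ?_) j
      rw [Fin.snoc_last, Fin.snoc_castSucc]
      intro hc
      exact hmu (Set.mem_iUnion.2 ⟨j, hc.symm⟩)
    · revert hij
      refine Fin.lastCases (fun hij => ?_) (fun j hij => ?_) j
      · rw [Fin.snoc_last, Fin.snoc_castSucc]
        intro hc
        exact hmu (Set.mem_iUnion.2 ⟨i, hc⟩)
      · rw [Fin.snoc_castSucc, Fin.snoc_castSucc]
        exact h1 i j fun h3 => hij (by rw [h3])
  · have h3 : (⋃ i, h.orb (Fin.snoc (α := fun _ => T →* ℂˣ) lam mu i)) = (⋃ i, h.orb (lam i)) ∪ h.orb mu := by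
      ext x
      rw [Set.mem_iUnion, Set.mem_union, Set.mem_iUnion]
      constructor
      · rintro ⟨i, hi⟩
        revert hi
        refine Fin.lastCases (fun hi => ?_) (fun i hi => ?_) i
        · rw [Fin.snoc_last] at hi
          exact Or.inr hi
        · rw [Fin.snoc_castSucc] at hi
          exact Or.inl ⟨i, hi⟩
      · rintro (⟨i, hi⟩ | hi)
        · exact ⟨i.castSucc, by rw [Fin.snoc_castSucc]; exact hi⟩
        · exact ⟨Fin.last m, by rw [Fin.snoc_last]; exact hi⟩
    rw [h3]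
    exact (Set.ncard_union_le _ _).trans (Nat.add_le_add h2 hk)

/-- adding a character -/
theorem Fam.succ {h : TSer U T N} [Finite G] {m c k : ℕ} (hF : h.Fam m c) (hc : c < Nat.card T)
    (hk : ∀ lam, (h.orb lam).ncard ≤ k) : h.Fam (m + 1) (c + k) := by
  have := h.finite_hom
  obtain ⟨lam, h1, h2⟩ := hF
  obtain ⟨mu, hmu⟩ : ∃ mu, mu ∉ ⋃ i, h.orb (lam i) := by
    by_contra hcon
    push Not at hcon
    have h3 : (⋃ i, h.orb (lam i)) = Set.univ := Set.eq_univ_of_forall hcon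
    rw [h3, Set.ncard_univ, h.card_hom] at h2
    omega
  exact Fam.add h1 h2 hmu (hk mu)

/-- **The number of orbits.** -/
theorem fam_of_card (h : TSer U T N) [Finite G] {k : ℕ} (hk : ∀ lam, (h.orb lam).ncard ≤ k) (m : ℕ)
    (hm : m * k + 1 < Nat.card T) : h.Fam (m + 2) (1 + (m + 1) * k) := by
  induction m with
  | zero => exact (h.fam_one.succ (by omega) hk).mono (by ring_nf; rfl)
  | succ m ih =>
    refine ((ih (lt_of_le_of_lt (by gcongr; omega) hm)).succ ?_ hk).mono (by ring_nf; rfl)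
    rw [Nat.add_comm 1]
    exact hm

theorem Fam.sf5 {h : TSer U T N} [Finite G] {c : ℕ} (hF : h.Fam 5 c) : SF5 G := by
  obtain ⟨lam, h1, -⟩ := hF
  exact h.many lam h1

theorem Fam.good5 {h : TSer U T N} [Finite G] {c : ℕ} (hF : h.Fam 5 c) (ht : H601.OddDeg.TwoC G) : Good5 G := by
  obtain ⟨lam, h1, -⟩ := hF
  exact h.good5 ht lam h1

/-- elements of `N` centralising `T` fix all characters -/
theorem act_of_comm (h : TSer U T N) (n : N) (hn : ∀ t ∈ T, (n : G) * t = t * n) (lam : T →* ℂˣ) : h.act n lam = lam := by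
  ext t
  rw [act_apply]
  congr 3
  rw [mul_assoc, ← hn t t.2, inv_mul_cancel_left]

/-- the stabilizer of a character -/
def St (h : TSer U T N) (lam : T →* ℂˣ) : Subgroup G where
  carrier := {g | ∃ hg : g ∈ N, h.act ⟨g, hg⟩ lam = lam}
  one_mem' := ⟨one_mem N, h.act_one lam⟩
  mul_mem' := by
    rintro a b ⟨ha, ha'⟩ ⟨hb, hb'⟩
    refine ⟨mul_mem ha hb, ?_⟩
    have h1 := h.act_mul ⟨a, ha⟩ ⟨b, hb⟩ lam
    rw [hb', ha'] at h1
    exact h1
  inv_mem' := by
    rintro a ⟨ha, ha'⟩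
    refine ⟨inv_mem ha, ?_⟩
    have h1 := h.act_mul ⟨a, ha⟩⁻¹ ⟨a, ha⟩ lam
    rw [inv_mul_cancel, h.act_one, ha'] at h1
    exact h1.symm

theorem St_le (h : TSer U T N) (lam : T →* ℂˣ) : h.St lam ≤ N := fun _ hg => hg.1

theorem T_le_St (h : TSer U T N) (hTN : T ≤ N) (lam : T →* ℂˣ) : T ≤ h.St lam := fun t ht =>
  ⟨hTN ht, h.act_of_comm _ (fun s hs => h.comm t ht s hs) lam⟩

theorem card_orb_le_T (h : TSer U T N) [Finite G] (hTN : T ≤ N) (lam : T →* ℂˣ) :
    (h.orb lam).ncard ≤ T.relIndex N :=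
  h.card_orb_le hTN fun n hn => h.act_of_comm _ (fun t ht => h.comm n hn t ht) lam

/-- **A character fixed by an element of `N` outside `T` has a small orbit.** -/
theorem card_orb_le_half (h : TSer U T N) [Finite G] (hTN : T ≤ N) {k : ℕ} (hk : T.relIndex N ≤ 2 * k + 1)
    {lam : T →* ℂˣ} {n : G} (hn : n ∈ N) (hnT : n ∉ T) (hl : h.act ⟨n, hn⟩ lam = lam) : (h.orb lam).ncard ≤ k := by
  have h1 : (h.orb lam).ncard ≤ (h.St lam).relIndex N := h.card_orb_le (h.St_le lam) fun g hg => hg.2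
  have h2 := Subgroup.relIndex_mul_relIndex T (h.St lam) N (h.T_le_St hTN lam) (h.St_le lam)
  have h3 : T.relIndex (h.St lam) ≠ 1 := by
    intro h4
    rw [Subgroup.relIndex_eq_one] at h4
    exact hnT (h4 ⟨hn, hl⟩)
  have h4 : T.relIndex (h.St lam) ≠ 0 := Subgroup.index_ne_zero_of_finite
  have h5 : 2 * (h.St lam).relIndex N ≤ T.relIndex N := by
    rw [← h2]
    exact Nat.mul_le_mul_right _ (by omega)
  omega

/-- **Five characters from the order of the torus.** -/
theorem sf5_of_card (h : TSer U T N) [Finite G] {C : Subgroup G} (hC : C ≤ N)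
    (hCT : ∀ n ∈ C, ∀ t ∈ T, n * t = t * n) {k : ℕ} (hk : C.relIndex N ≤ k) (hT : 3 * k + 1 < Nat.card T) :
    SF5 G :=
  (h.fam_of_card (fun lam => (h.card_orb_le hC fun n hn => h.act_of_comm _ (fun t ht => hCT n hn t ht) lam).trans hk) 3
    hT).sf5

theorem good5_of_card (h : TSer U T N) [Finite G] (ht : H601.OddDeg.TwoC G) {C : Subgroup G} (hC : C ≤ N)
    (hCT : ∀ n ∈ C, ∀ t ∈ T, n * t = t * n) {k : ℕ} (hk : C.relIndex N ≤ k) (hT : 3 * k + 1 < Nat.card T) :
    Good5 G := (h.sf5_of_card hC hCT hk hT).good5 ht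

end TSer

end Cfsg.Agent.H151.K4
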