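import Cfsg.Agent.H151.K4.TS
import Cfsg.Agent.H392.TwFFour.DatF
import Cfsg.Agent.H742.TwoC
import Cfsg.Agent.H42.Deg.F4Main

/-!
# Row (A) of S4547 / S4947 for `²F₄(q)`, `q = 2 ^ (2 m + 1) ≥ 8` (helper151, TEAM K4)

* `tser` : the `T`-series data; `relIndex_le` : `|N : T| ≤ 16`;
* **`good5`** : `Good5 S` for `Lie.Iso2F4 S`.
-/

set_option autoImplicit false
set_option linter.unusedSectionVars false

open Cfsg

namespace Cfsg.Agent.H151.K4.TwF4

open Cfsg.Agent.SplitTwo Cfsg.Agent.SplitTwo.ZS Cfsg.Agent.TitsThree.RankTwoZ Cfsg.Agent.KFacts.TwF4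
open Cfsg.Agent.KFacts.TwF4.Arc Cfsg.Agent.KFacts.TwF4.Irr Cfsg.Agent.H249 Cfsg.Agent.H392.TwFFour
open Cfsg.Agent.H601.K4

universe u

variable {F : Type*} [Field F] [Finite F] {σ : F →+* F} {G : Type u} [Group G] [Finite G] (S : Full σ G)

theorem tser (hR : S.R.p = 2) (hidx : Odd (J S.XZ 1 8 ⊔ S.T).index) : TSer (J S.XZ 1 8) S.T (Nm S) where
  norm := (datF S hR).T_le_normalizer
  disj := by
    intro x h1 h2
    have hp : IsPGroup 2 ↥(J S.XZ 1 8) := (datF S hR).pU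
    obtain ⟨k, hk⟩ := IsPGroup.iff_orderOf.1 hp ⟨x, h1⟩
    rw [Subgroup.orderOf_mk] at hk
    have h4 : orderOf x ∣ Nat.card S.T := by
      have := orderOf_dvd_natCard (⟨x, h2⟩ : S.T)
      rwa [Subgroup.orderOf_mk] at this
    have h5 : (orderOf x).Coprime (orderOf x) := by
      nth_rewrite 2 [hk]
      exact Nat.Coprime.pow_right _ (Nat.Coprime.coprime_dvd_left h4 (datF S hR).cop)
    rw [Nat.coprime_self] at h5
    exact orderOf_eq_one_iff.1 h5
  idx := hidx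
  odd := AutNorm.odd_T S
  comm := fun a ha b hb => S.T_comm ha hb
  NT := fun n hn t ht => NT S hn ht
  cover := fun g => by
    obtain ⟨u, hu, k, hk, b, hb, e⟩ := (datF S hR).bruhat g
    refine ⟨u, Subgroup.mem_sup_left hu, k, hk, b, ?_, e⟩
    rw [sup_comm]
    exact hb

/-- the permutations of the roots -/
def fm (c : Fin 8 × Bool) : ZMod (2 * 8) → ZMod (2 * 8) :=
  fun k => if c.2 then 2 * ((c.1 : ℕ) : ZMod (2 * 8)) + k else 2 * ((c.1 : ℕ) : ZMod (2 * 8)) - k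

/-- the inverse permutations -/
def fi (c : Fin 8 × Bool) : ZMod (2 * 8) → ZMod (2 * 8) :=
  fun k => if c.2 then k - 2 * ((c.1 : ℕ) : ZMod (2 * 8)) else 2 * ((c.1 : ℕ) : ZMod (2 * 8)) - k

theorem fm_fi (c : Fin 8 × Bool) (k : ZMod (2 * 8)) : fm c (fi c k) = k := by
  unfold fm fi
  split_ifs <;> ring

theorem fi_fm (c : Fin 8 × Bool) (k : ZMod (2 * 8)) : fi c (fm c k) = k := by
  unfold fm fi
  split_ifs <;> ring

theorem card_maps {w : G} {f : ZMod (2 * 8) → ZMod (2 * 8)} (hw : Maps S.R.X w f) (k : ZMod (2 * 8)) :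
    Nat.card (S.R.X (f k)) = Nat.card (S.R.X k) := by
  have h1 : S.R.X (f k) = (S.R.X k).map (MulAut.conj w).toMonoidHom := by
    ext x
    constructor
    · intro hx
      refine ⟨w⁻¹ * x * w, ?_, ?_⟩
      · have := (hw k (w⁻¹ * x * w)).1 (by
          have e : w * (w⁻¹ * x * w) * w⁻¹ = x := by group
          rwa [e])
        exact this
      · simp [MulAut.conj_apply]; group
    · rintro ⟨y, hy, rfl⟩
      exact (hw k y).2 hy
  rw [h1]
  exact (Nat.card_congr ((S.R.X k).equivMapOfInjective _ (MulAut.conj w).injective).toEquiv).symm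

theorem card_X_od (a : ZMod 8) : Nat.card (S.R.X (od a)) = Nat.card F := by
  have h1 := card_odd S (a.val : ℤ)
  have h2 : S.XZ (2 * (a.val : ℤ) + 1) = S.R.X (od a) := by
    show S.R.X _ = _
    have h3 : ∀ a : ZMod 8, ((2 * (a.val : ℤ) + 1 : ℤ) : ZMod (2 * 8)) = od a := by decide
    rw [h3 a]
  rwa [h2] at h1

theorem card_X_ev (a : ZMod 8) : Nat.card (S.R.X (ev a)) = Nat.card F ^ 2 := by
  have h1 := card_even S (a.val : ℤ)
  have h2 : S.XZ (2 * (a.val : ℤ)) = S.R.X (ev a) := by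
    show S.R.X _ = _
    have h3 : ∀ a : ZMod 8, ((2 * (a.val : ℤ) : ℤ) : ZMod (2 * 8)) = ev a := by decide
    rw [h3 a]
  rwa [h2] at h1

theorem exists_fm {w : G} (hw : w ∈ Nm S) : ∃ c : Fin 8 × Bool, Maps S.R.X w (fm c) := by
  have hq : 1 < Nat.card F := Finite.one_lt_card
  obtain ⟨c, hc⟩ := hw
  -- `c` is even
  have hev : ∃ a : Fin 8, c = 2 * ((a : ℕ) : ZMod (2 * 8)) := by
    have key : ∀ c : ZMod (2 * 8), (∃ a : Fin 8, c = 2 * ((a : ℕ) : ZMod (2 * 8))) ∨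
        ((∃ a : ZMod 8, c + 1 = ev a) ∧ (∃ a : ZMod 8, c - 1 = ev a) ∧ ∃ b : ZMod 8, (1 : ZMod (2 * 8)) = od b) := by
      decide
    rcases key c with h1 | ⟨⟨a, ha⟩, ⟨a', ha'⟩, b, hb⟩
    · exact h1
    · exfalso
      have h2 : Nat.card F ^ 2 = Nat.card F := by
        rcases hc with hc | hc
        · have h3 := card_maps S hc 1
          rw [ha, card_X_ev, hb, card_X_od] at h3
          exact h3
        · have h3 := card_maps S hc 1
          rw [ha', card_X_ev, hb, card_X_od] at h3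
          exact h3
      nlinarith
  obtain ⟨a, rfl⟩ := hev
  rcases hc with hc | hc
  · exact ⟨(a, true), hc.congr fun k => by simp [fm]⟩
  · exact ⟨(a, false), hc.congr fun k => by simp [fm]⟩

/-- `|N : T| ≤ 16` -/
theorem relIndex_le : S.T.relIndex (Nm S) ≤ 16 := by
  classical
  have h0 : Nat.card (Fin 8 × Bool) = 16 := by
    rw [Nat.card_prod]
    simp
  rw [← h0, Subgroup.relIndex, Subgroup.index]
  choose f hf using fun w : Nm S => exists_fm S w.2
  refine Nat.card_le_card_of_injective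
    (fun c : (Nm S) ⧸ (S.T.subgroupOf (Nm S)) => f c.out) ?_
  intro c d hcd
  have hcd' : f c.out = f d.out := hcd
  rw [← QuotientGroup.out_eq' c, ← QuotientGroup.out_eq' d]
  refine QuotientGroup.eq.2 ?_
  rw [Subgroup.mem_subgroupOf]
  have h1 := hf c.out
  have h2 := hf d.out
  rw [hcd'] at h1
  have h3 : Maps S.R.X ((c.out : G)⁻¹) (fi (f d.out)) := h1.inv fun k => fm_fi _ k
  exact (h3.mul h2).congr fun k => fi_fm _ k

/-- the character `h c d ↦ θ(c) θ(d)⁻¹` -/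
theorem exists_lam (hc : ∃ c : Fˣ, c ≠ 1) :
    ∃ lam : S.T →* ℂˣ, lam ≠ 1 ∧ ∀ (t : S.T) (ht : S.n1⁻¹ * t * S.n1 ∈ S.T), lam ⟨_, ht⟩ = lam t := by
  obtain ⟨c, hc⟩ := hc
  have : HasEnoughRootsOfUnity ℂ (Monoid.exponent Fˣ) := inferInstance
  obtain ⟨θ, hθ⟩ := CommGroup.exists_apply_ne_one_of_hasEnoughRootsOfUnity Fˣ ℂ hc
  have hd : ∀ t : S.T, ∃ cd : Fˣ × Fˣ, S.h cd.1 cd.2 = t := by
    intro t
    obtain ⟨a, b, h⟩ := S.mem_T.1 t.2
    exact ⟨(a, b), h⟩
  choose g hg using hd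
  have hgu : ∀ (t : S.T) (a b : Fˣ), S.h a b = t → g t = (a, b) := by
    intro t a b h
    obtain ⟨h1, h2⟩ := S.h_inj _ _ _ _ ((hg t).trans h.symm)
    exact Prod.ext h1 h2
  let lam : S.T →* ℂˣ :=
    { toFun := fun t => θ ((g t).1 * (g t).2⁻¹)
      map_one' := by
        rw [hgu 1 1 1 (by rw [S.h_one]; rfl)]
        simp
      map_mul' := fun s t => by
        have h1 : g (s * t) = ((g s).1 * (g t).1, (g s).2 * (g t).2) := by
          apply hgu
          rw [← S.h_mul, hg, hg]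
          rfl
        rw [h1, ← map_mul]
        congr 1
        simp only [mul_inv]
        exact mul_mul_mul_comm _ _ _ _ }
  refine ⟨lam, ?_, ?_⟩
  · intro h1
    apply hθ
    have h2 : lam ⟨S.h c 1, S.mem_T.2 ⟨c, 1, rfl⟩⟩ = 1 := by rw [h1]; rfl
    have h3 : lam ⟨S.h c 1, S.mem_T.2 ⟨c, 1, rfl⟩⟩ = θ c := by
      show θ ((g _).1 * (g _).2⁻¹) = _
      rw [hgu _ c 1 rfl]
      simp
    rw [← h3, h2]
  · intro t ht
    show θ ((g _).1 * (g _).2⁻¹) = θ ((g t).1 * (g t).2⁻¹)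
    have h1 : g ⟨S.n1⁻¹ * t * S.n1, ht⟩ = ((g t).2⁻¹, (g t).1⁻¹) := by
      apply hgu
      show _ = S.n1⁻¹ * t * S.n1
      have h2 := n1_h S (g t).1 (g t).2
      rw [hg t] at h2
      have h3 : S.n1⁻¹ = S.n1 := by
        rw [inv_eq_iff_mul_eq_one]
        exact S.n1_sq
      rw [h3] at h2 ⊢
      exact h2.symm
    rw [h1]
    simp only [inv_inv]
    congr 1
    exact mul_comm _ _

theorem n1_notMem (hc : ∃ c : Fˣ, c ≠ 1) : S.n1 ∉ S.T := by
  intro h
  obtain ⟨c, hc⟩ := hc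
  have h1 := n1_h S c 1
  have h2 : S.h c 1 ∈ S.T := S.mem_T.2 ⟨c, 1, rfl⟩
  rw [S.T_comm h h2, mul_inv_cancel_right] at h1
  have h3 := (S.h_inj _ _ _ _ h1).1
  rw [inv_one] at h3
  exact hc h3

theorem sf5_full (hR : S.R.p = 2) (hidx : Odd (J S.XZ 1 8 ⊔ S.T).index)
    (h8 : 8 ≤ Nat.card F) : SF5 G := by
  have hT := tser S hR hidx
  have hcT : 49 ≤ Nat.card S.T := by
    rw [card_T]
    calc 49 = 7 ^ 2 := by norm_num
      _ ≤ (Nat.card F - 1) ^ 2 := Nat.pow_le_pow_left (by omega) 2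
  have hc : ∃ c : Fˣ, c ≠ 1 := by
    have h1 : Nat.card Fˣ = Nat.card F - 1 := Nat.card_units F
    have : Nontrivial Fˣ := by
      rw [← Finite.one_lt_card_iff_nontrivial, h1]
      omega
    exact exists_ne 1
  have hk : ∀ lam, (hT.orb lam).ncard ≤ 16 := fun lam => (hT.card_orb_le_T (T_le_Nm S) lam).trans (relIndex_le S)
  obtain ⟨lam, h1, h2⟩ := exists_lam S hc
  have hn : S.n1 ∈ Nm S := (datF S hR).nN 0
  have h3 : (hT.orb lam).ncard ≤ 8 := by
    refine hT.card_orb_le_half (T_le_Nm S) (k := 8) ((relIndex_le S).trans (by norm_num)) hn (n1_notMem S hc) ?_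
    ext t
    rw [TSer.act_apply]
    congr 1
    exact h2 t _
  have h4 : hT.Fam 2 9 := by
    refine TSer.Fam.add (lam := fun _ : Fin 1 => (1 : S.T →* ℂˣ)) (fun i j hij => absurd (Subsingleton.elim i j) hij)
      (c := 1) ?_ (mu := lam) ?_ h3
    · rw [Set.iUnion_const, hT.orb_one, Set.ncard_singleton]
    · rw [Set.iUnion_const, hT.orb_one]
      exact h1
  have h5 := ((h4.succ (by omega) hk).succ (by omega) hk).succ (by omega) hk
  exact h5.sf5

/-- **`²F₄(q)`, `q ≥ 8`.** -/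
theorem good5 {S : Type u} [Group S] [Finite S] [IsSimpleGroup S] (h : Lie.Iso2F4 S) (ht : H601.OddDeg.TwoC S) :
    Good5 S := by
  obtain ⟨K, _, _, m, hm, hK, ⟨e⟩⟩ := h
  have hch := Cfsg.Agent.ChevalleyStructure.TwF4.Twisted.charP_two hK
  have hfin : Finite ↥(Lie.twistedF4 K (2 ^ m)) := Finite.of_equiv S e.toEquiv
  obtain ⟨φ, hφ⟩ := Cfsg.Agent.ChevalleyStructure.TwF4.TwistedFix.exists_rln hK
  have hcard := Cfsg.Agent.S1068.result hK
  set R := Cfsg.Agent.KFacts.TwF4.Inst.full hK hφ with hS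
  have hR : R.R.p = 2 := rfl
  have hF := H42.Deg.F4.exists_unit hm hK
  have hq : Nat.card K = 2 ^ (2 * m + 1) := by rw [Nat.card_eq_fintype_card, hK]
  have h8 : 8 ≤ Nat.card K := by
    rw [hq]
    calc 8 = 2 ^ 3 := by norm_num
      _ ≤ 2 ^ (2 * m + 1) := Nat.pow_le_pow_right (by norm_num) (by omega)
  have hidx : Odd (J R.XZ 1 8 ⊔ R.T).index := by
    have h1 := (J R.XZ 1 8).card_mul_index
    rw [card_U, hcard, hq] at h1
    have h2 : (2 ^ (2 * m + 1)) ^ 12 * (J R.XZ 1 8).index = (2 ^ (2 * m + 1)) ^ 12 *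
        ((2 ^ (2 * m + 1) - 1) * ((2 ^ (2 * m + 1)) ^ 3 + 1) * ((2 ^ (2 * m + 1)) ^ 4 - 1) *
          ((2 ^ (2 * m + 1)) ^ 6 + 1)) := by
      rw [h1]; ring
    have h3 := Nat.eq_of_mul_eq_mul_left (by positivity) h2
    have h4 : Odd (J R.XZ 1 8).index := by
      rw [h3]
      have e1 : ∀ k, 0 < k → Even ((2 ^ (2 * m + 1)) ^ k) := fun k hk =>
        ((even_two.pow_of_ne_zero (by omega)).pow_of_ne_zero hk.ne')
      have e2 : ∀ n : ℕ, 0 < n → Even n → Odd (n - 1) := fun n hn he => by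
        obtain ⟨a, ha⟩ := he
        exact ⟨a - 1, by omega⟩
      refine ((Odd.mul (Odd.mul ?_ ?_) ?_)).mul ?_
      · exact e2 _ (by positivity) (even_two.pow_of_ne_zero (by omega))
      · exact (e1 3 (by norm_num)).add_one
      · exact e2 _ (by positivity) (e1 4 (by norm_num))
      · exact (e1 6 (by norm_num)).add_one
    exact h4.of_dvd_nat (Subgroup.index_dvd_of_le le_sup_left)
  exact ((sf5_full R hR hidx h8).of_equiv e).good5 ht

end Cfsg.Agent.H151.K4.TwF4
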